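import Mathlib
import Groth.Agent.E4O.DimField

set_option autoImplicit false
set_option linter.unusedSectionVars false
universe u

namespace Groth.Agent.GrSG31

variable {k : Type u} [Field k] [IsAlgClosed k] {R : Type u} [CommRing R] [IsDomain R] [Algebra k R]
  (𝒜 : ℤ → Submodule k R) [GradedAlgebra 𝒜]

/-- homogeneous elements of the same nonzero degree are proportional -/
theorem proportional [Algebra.FiniteType k R] (h1 : ringKrullDim R = 1) {n : ℤ} (hn : n ≠ 0)
    {a b : R} (ha : a ∈ 𝒜 n) (hb : b ∈ 𝒜 n) (hb0 : b ≠ 0) : ∃ c : k, a = c • b := by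
  classical
  have hd : Cardinal.toNat (Algebra.trdeg k R) = 1 := by
    have := Groth.Agent.E4O.ringKrullDim_eq_trdeg k R
    rw [h1] at this
    exact_mod_cast this.symm
  have hd' : Algebra.trdeg k R = 1 := Cardinal.toNat_eq_one.1 hd
  have hdep : ¬ AlgebraicIndependent k ![a, b] := by
    intro h
    have := h.lift_cardinalMk_le_trdeg
    rw [hd'] at this
    simp at this
  rw [algebraicIndependent_iff] at hdep
  push Not at hdep
  obtain ⟨P, hP, hP0⟩ := hdep
  obtain ⟨ms, hms⟩ := MvPolynomial.support_nonempty.2 hP0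
  set d := ms 0 + ms 1 with hd2
  set S := P.support.filter (fun m => m 0 + m 1 = d) with hS
  have hterm : ∀ m : Fin 2 →₀ ℕ,
      P.coeff m • (a ^ m 0 * b ^ m 1) ∈ 𝒜 ((m 0 + m 1 : ℕ) • n) := by
    intro m
    apply Submodule.smul_mem
    rw [add_smul]
    exact SetLike.mul_mem_graded (SetLike.pow_mem_graded _ ha) (SetLike.pow_mem_graded _ hb)
  have hsum : ∑ m ∈ S, P.coeff m • (a ^ m 0 * b ^ m 1) = 0 := by
    have h2 : (MvPolynomial.aeval ![a, b]) P
        = ∑ m ∈ P.support, P.coeff m • (a ^ m 0 * b ^ m 1) := by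
      rw [MvPolynomial.aeval_def, MvPolynomial.eval₂_eq']
      simp [Algebra.smul_def, Fin.prod_univ_two]
    rw [hP] at h2
    have h3 := congrArg (GradedRing.proj 𝒜 ((d : ℕ) • n)) h2
    rw [map_zero, map_sum] at h3
    rw [hS, Finset.sum_filter]
    refine Eq.trans (Finset.sum_congr rfl fun m _ => ?_) h3.symm
    rw [GradedRing.proj_apply]
    split_ifs with hm
    · rw [DirectSum.decompose_of_mem_same]
      rw [← hm]; exact hterm m
    · rw [DirectSum.decompose_of_mem_ne 𝒜 (hterm m)]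
      intro he
      apply hm
      simp only [nsmul_eq_mul] at he
      exact_mod_cast mul_right_cancel₀ hn he
  let K := FractionRing R
  have hbK : algebraMap R K b ≠ 0 := by
    simpa using hb0
  set z : K := algebraMap R K a / algebraMap R K b with hz
  let Q : Polynomial k := ∑ m ∈ S, Polynomial.monomial (m 0) (P.coeff m)
  have hQ : Polynomial.aeval z Q = 0 := by
    have h5 : ∀ m ∈ S, Polynomial.aeval z (Polynomial.monomial (m 0) (P.coeff m))
        = algebraMap R K (P.coeff m • (a ^ m 0 * b ^ m 1)) / algebraMap R K b ^ d := by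
      intro m hm
      have hmd : m 0 + m 1 = d := (Finset.mem_filter.1 hm).2
      rw [Polynomial.aeval_monomial, hz, Algebra.smul_def, map_mul, map_mul, map_pow, map_pow,
        ← IsScalarTower.algebraMap_apply k R K, ← hmd, pow_add, div_pow]
      rw [mul_div_assoc, mul_div_mul_right _ _ (pow_ne_zero _ hbK)]
    simp only [Q, map_sum]
    rw [Finset.sum_congr rfl h5, ← Finset.sum_div, ← map_sum, hsum]
    simp
  have hQ0 : Q ≠ 0 := by
    intro h
    have h6 := congrArg (fun q => Polynomial.coeff q (ms 0)) h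
    simp only [Q, Polynomial.finsetSum_coeff, Polynomial.coeff_monomial, Polynomial.coeff_zero] at h6
    rw [Finset.sum_eq_single ms] at h6
    · simp at h6
      exact MvPolynomial.mem_support_iff.1 hms h6
    · intro m hm hne
      rw [if_neg]
      intro h0
      apply hne
      have hmd : m 0 + m 1 = d := (Finset.mem_filter.1 hm).2
      ext i; fin_cases i
      · exact h0
      · change m 1 = ms 1; omega
    · intro h'; exact absurd (show ms ∈ S from Finset.mem_filter.2 ⟨hms, hd2.symm⟩) h'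
  have hint : IsIntegral k z := IsAlgebraic.isIntegral (K := k) ⟨Q, hQ0, hQ⟩
  obtain ⟨c, hc⟩ := minpoly.degree_eq_one_iff.1
    (IsAlgClosed.degree_eq_one_of_irreducible (k := k) (minpoly.irreducible hint))
  refine ⟨c, ?_⟩
  apply IsFractionRing.injective R K
  rw [Algebra.smul_def, map_mul, ← IsScalarTower.algebraMap_apply k R K, hc, hz, div_mul_cancel₀ _ hbK]

/-- a graded domain of dimension one over an algebraically closed field has one-dimensional
components, proportionality in any degree -/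
theorem proportional' [Algebra.FiniteType k R] (h1 : ringKrullDim R = 1)
    (h0 : 𝒜 0 = Submodule.span k {(1 : R)}) {n : ℤ} {a b : R} (ha : a ∈ 𝒜 n) (hb : b ∈ 𝒜 n)
    (hb0 : b ≠ 0) : ∃ c : k, a = c • b := by
  by_cases hn : n = 0
  · subst hn
    rw [h0, Submodule.mem_span_singleton] at ha hb
    obtain ⟨x, rfl⟩ := ha
    obtain ⟨y, rfl⟩ := hb
    have hy : y ≠ 0 := by rintro rfl; simp at hb0
    exact ⟨x / y, by rw [smul_smul, div_mul_cancel₀ _ hy]⟩
  · exact proportional 𝒜 h1 hn ha hb hb0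

/-- there is a positive degree with a nonzero component -/
theorem exists_pos [Algebra.FiniteType k R] (h1 : ringKrullDim R = 1)
    (hpos : ∀ n : ℤ, n < 0 → 𝒜 n = ⊥)
    (h0 : 𝒜 0 = Submodule.span k {(1 : R)}) : ∃ n : ℕ, 0 < n ∧ 𝒜 (n : ℤ) ≠ ⊥ := by
  by_contra h
  push Not at h
  have hall : ∀ x : R, x ∈ Submodule.span k {(1 : R)} := by
    intro x
    refine DirectSum.Decomposition.inductionOn 𝒜 (Submodule.zero_mem _) ?_
      (fun a b => Submodule.add_mem _) x
    rintro i ⟨m, hm⟩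
    rcases lt_trichotomy i 0 with hi | rfl | hi
    · rw [hpos i hi, Submodule.mem_bot] at hm
      simp [hm]
    · rw [h0] at hm; exact hm
    · lift i to ℕ using hi.le
      rw [h i (by omega), Submodule.mem_bot] at hm
      simp [hm]
  have hsurj : Function.Surjective (algebraMap k R) := by
    intro x
    obtain ⟨c, hc⟩ := Submodule.mem_span_singleton.1 (hall x)
    exact ⟨c, by rw [← hc, Algebra.algebraMap_eq_smul_one]⟩
  have h2 := ringKrullDim_le_of_surjective _ hsurj
  rw [h1, ringKrullDim_eq_zero_of_field k] at h2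
  exact absurd h2 (by norm_num)

/-- a multiplicative choice of bases of the components -/
theorem exists_hom [Algebra.FiniteType k R] (h1 : ringKrullDim R = 1)
    (hpos : ∀ n : ℤ, n < 0 → 𝒜 n = ⊥)
    (h0 : 𝒜 0 = Submodule.span k {(1 : R)}) :
    ∃ (H : AddSubmonoid ℕ) (f : Multiplicative H →* R),
      (∀ n : ℕ, n ∈ H ↔ 𝒜 (n : ℤ) ≠ ⊥) ∧
      (∀ h : H, f (Multiplicative.ofAdd h) ∈ 𝒜 ((h : ℕ) : ℤ) ∧ f (Multiplicative.ofAdd h) ≠ 0) := by
  classical
  have h00 : (1 : R) ∈ 𝒜 0 := SetLike.one_mem_graded 𝒜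
  let H : AddSubmonoid ℕ :=
    { carrier := {n | 𝒜 (n : ℤ) ≠ ⊥}
      zero_mem' := by
        intro h
        simp only [Nat.cast_zero] at h
        rw [h, Submodule.mem_bot] at h00
        exact one_ne_zero h00
      add_mem' := by
        intro m n hm hn h
        obtain ⟨x, hx, hx0⟩ := Submodule.exists_mem_ne_zero_of_ne_bot hm
        obtain ⟨y, hy, hy0⟩ := Submodule.exists_mem_ne_zero_of_ne_bot hn
        have hxy := SetLike.mul_mem_graded (A := 𝒜) hx hy
        rw [Nat.cast_add] at h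
        rw [h, Submodule.mem_bot] at hxy
        exact mul_ne_zero hx0 hy0 hxy }
  obtain ⟨w, hw0, hw⟩ := exists_pos 𝒜 h1 hpos h0
  have hD : ∃ d : ℕ, 0 < d ∧ ∃ u v : ℕ, u ∈ H ∧ v ∈ H ∧ u = v + d :=
    ⟨w, hw0, w, 0, hw, H.zero_mem, by simp⟩
  obtain ⟨g, ⟨hg0, u, v, hu, hv, huv⟩, hgmin⟩ :
      ∃ g : ℕ, (0 < g ∧ ∃ u v : ℕ, u ∈ H ∧ v ∈ H ∧ u = v + g) ∧
        ∀ d < g, ¬ (0 < d ∧ ∃ u v : ℕ, u ∈ H ∧ v ∈ H ∧ u = v + d) :=
    ⟨Nat.find hD, Nat.find_spec hD, fun d => Nat.find_min hD⟩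
  have hdvd : ∀ h ∈ H, g ∣ h := by
    intro h hh
    by_contra hc
    refine hgmin (h % g) (Nat.mod_lt _ hg0)
      ⟨Nat.pos_of_ne_zero fun e => hc (Nat.dvd_of_mod_eq_zero e),
        h + (h / g) • v, (h / g) • u, H.add_mem hh (H.nsmul_mem hv _), H.nsmul_mem hu _, ?_⟩
    have := Nat.div_add_mod h g
    simp only [smul_eq_mul, huv, mul_add]
    rw [mul_comm (h / g) g]
    omega
  obtain ⟨eu, heu, heu0⟩ := Submodule.exists_mem_ne_zero_of_ne_bot hu
  obtain ⟨ev, hev, hev0⟩ := Submodule.exists_mem_ne_zero_of_ne_bot hv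
  have hex : ∀ h : H, ∃ x ∈ 𝒜 ((h : ℕ) : ℤ), x * ev ^ ((h : ℕ) / g) = eu ^ ((h : ℕ) / g) := by
    intro h
    obtain ⟨y, hy, hy0⟩ := Submodule.exists_mem_ne_zero_of_ne_bot (h.2)
    obtain ⟨i, hi⟩ := hdvd _ h.2
    rw [hi, Nat.mul_div_cancel_left _ hg0]
    rw [hi] at hy
    have e : ((g * i : ℕ) : ℤ) + i • (v : ℤ) = i • (u : ℤ) := by
      simp only [nsmul_eq_mul, huv]; push_cast; ring
    have hm : y * ev ^ i ∈ 𝒜 (i • (u : ℤ)) := by
      rw [← e]; exact SetLike.mul_mem_graded hy (SetLike.pow_mem_graded _ hev)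
    obtain ⟨c, hc⟩ := proportional' 𝒜 h1 h0 (SetLike.pow_mem_graded i heu) hm
      (mul_ne_zero hy0 (pow_ne_zero _ hev0))
    exact ⟨c • y, Submodule.smul_mem _ _ hy, by rw [hc, smul_mul_assoc]⟩
  choose F hF hF' using hex
  have hne : ∀ h : H, F h ≠ 0 := by
    intro h e
    have := hF' h
    rw [e, zero_mul] at this
    exact pow_ne_zero _ heu0 this.symm
  have hone : F 0 = 1 := by
    have := hF' 0
    simpa using this
  have hmul : ∀ a b : H, F (a + b) = F a * F b := by
    intro a b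
    apply mul_right_cancel₀ (pow_ne_zero (((a + b : H) : ℕ) / g) hev0)
    rw [hF', AddSubmonoid.coe_add, Nat.add_div_of_dvd_right (hdvd _ a.2), pow_add, pow_add,
      mul_mul_mul_comm, hF', hF']
  exact ⟨H,
    { toFun := fun x => F x.toAdd
      map_one' := hone
      map_mul' := fun x y => hmul x.toAdd y.toAdd },
    fun n => Iff.rfl, fun h => ⟨hF h, hne h⟩⟩

theorem exists_algEquiv [Algebra.FiniteType k R] (h1 : ringKrullDim R = 1)
    (hpos : ∀ n : ℤ, n < 0 → 𝒜 n = ⊥)
    (h0 : 𝒜 0 = Submodule.span k {(1 : R)}) :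
    ∃ H : AddSubmonoid ℕ, (∀ n : ℕ, n ∈ H ↔ 𝒜 (n : ℤ) ≠ ⊥) ∧
      Nonempty (AddMonoidAlgebra k H ≃ₐ[k] R) := by
  classical
  obtain ⟨H, f, hH, hf⟩ := exists_hom 𝒜 h1 hpos h0
  refine ⟨H, hH, ⟨AlgEquiv.ofBijective (AddMonoidAlgebra.lift k R H f) ⟨?_, ?_⟩⟩⟩
  · have hli : LinearIndependent k (fun h : H => f (Multiplicative.ofAdd h)) :=
      iSupIndep.linearIndependent (fun h : H => 𝒜 ((h : ℕ) : ℤ))
        ((DirectSum.Decomposition.isInternal 𝒜).submodule_iSupIndep.comp
          (fun a b e => Subtype.ext (Int.ofNat.inj e)))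
        (fun h => (hf h).1) (fun h => (hf h).2)
    intro p q hpq
    have e : ∀ p : AddMonoidAlgebra k H, AddMonoidAlgebra.lift k R H f p
        = Finsupp.linearCombination k (fun h : H => f (Multiplicative.ofAdd h)) p.coeff := by
      intro p
      rw [AddMonoidAlgebra.lift_apply, Finsupp.linearCombination_apply]
    rw [e, e] at hpq
    exact AddMonoidAlgebra.coeff_injective (hli hpq)
  · intro x
    refine DirectSum.Decomposition.inductionOn 𝒜 ⟨0, map_zero _⟩ ?_ ?_ x
    · rintro i ⟨m, hm⟩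
      by_cases hm0 : m = 0
      · exact ⟨0, by simp [hm0]⟩
      have hi : 0 ≤ i := by
        by_contra hi
        push Not at hi
        rw [hpos i hi, Submodule.mem_bot] at hm
        exact hm0 hm
      lift i to ℕ using hi
      have hiH : i ∈ H := (hH i).2 fun e => hm0 (by rw [e, Submodule.mem_bot] at hm; exact hm)
      obtain ⟨c, hc⟩ := proportional' 𝒜 h1 h0 hm (hf ⟨i, hiH⟩).1 (hf ⟨i, hiH⟩).2
      exact ⟨AddMonoidAlgebra.single ⟨i, hiH⟩ c, by rw [AddMonoidAlgebra.lift_single]; exact hc.symm⟩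
    · rintro a b ⟨p, hp⟩ ⟨q, hq⟩
      exact ⟨p + q, by rw [map_add, hp, hq]⟩

end Groth.Agent.GrSG31
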